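import Groth.Agent.AlgSpRegLib.GenericClosure
import Groth.Agent.SubDescLib.Main
import Groth.Agent.TorsExtLib.Main

/-! Schematic closure of a closed subgroup of the generic fibre. -/

set_option autoImplicit false
set_option linter.style.haveILetI false
set_option backward.isDefEq.respectTransparency false
set_option maxHeartbeats 1000000

universe u

open CategoryTheory CategoryTheory.Limits MonoidalCategory CartesianMonoidalCategory AlgebraicGeometry
open scoped MonObj

noncomputable section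

namespace ClosureGrpLib

variable {R : Type u} [CommRing R] [IsDedekindDomain R] (G : Over (Spec (CommRingCat.of R))) [GrpObj G]
  (HK : Over (Spec (CommRingCat.of (FractionRing R)))) [GrpObj HK]
  (i : HK ⟶ Red.bc (Neron.genPt R) G) [IsMonHom i]

/-- `HK ⟶ G`. -/
abbrev u₀ : HK.left ⟶ G.left := i.left ≫ pullback.fst G.hom (Neron.genPt R)

/-- `HK` over `R`. -/
abbrev HR : Over (Spec (CommRingCat.of R)) := Over.mk (HK.hom ≫ Neron.genPt R)

theorem u₀_hom : u₀ G HK i ≫ G.hom = HK.hom ≫ Neron.genPt R := by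
  rw [Category.assoc, pullback.condition, ← Category.assoc]
  exact congrArg (· ≫ Neron.genPt R) (Over.w i)

/-- `HK ⟶ G` over `R`. -/
abbrev uo : HR HK ⟶ G := Over.homMk (u₀ G HK i) (u₀_hom G HK i)

variable {G HK}

theorem ext_K {T : Over (Spec (CommRingCat.of R))} (a b : T ⟶ HR HK) : a.left ≫ HK.hom = b.left ≫ HK.hom := by
  haveI : IsPreimmersion (Neron.genPt R) := IsPreimmersion.of_isLocalization (nonZeroDivisors R)
  rw [← cancel_mono (Neron.genPt R), Category.assoc, Category.assoc]
  exact (Over.w a).trans (Over.w b).symm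

/-- `T` over `K`. -/
abbrev TK {T : Over (Spec (CommRingCat.of R))} (a : T ⟶ HR HK) : Over (Spec (CommRingCat.of (FractionRing R))) :=
  Over.mk (a.left ≫ HK.hom)

/-- the unit `T ⟶ T_K` -/
abbrev unitK {T : Over (Spec (CommRingCat.of R))} (a : T ⟶ HR HK) :
    TK a ⟶ Red.bc (Neron.genPt R) T :=
  Over.homMk (pullback.lift (𝟙 T.left) (a.left ≫ HK.hom) (by
    rw [Category.assoc]
    exact (Category.id_comp T.hom).trans (Over.w a).symm)) (pullback.lift_snd _ _ _)

theorem unitK_fst {T : Over (Spec (CommRingCat.of R))} (a : T ⟶ HR HK) :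
    (unitK a).left ≫ pullback.fst T.hom (Neron.genPt R) = 𝟙 T.left := pullback.lift_fst _ _ _

theorem unitK_map {T : Over (Spec (CommRingCat.of R))} (a c : T ⟶ HR HK) :
    unitK a ≫ (Over.pullback (Neron.genPt R)).map (c ≫ uo G HK i) =
      (Over.homMk c.left (ext_K c a) : TK a ⟶ HK) ≫ i := by
  refine Over.OverMorphism.ext (pullback.hom_ext ?_ ?_)
  · simp only [Over.comp_left, Category.assoc, ActBC.pullback_map_left_fst]
    rw [← Category.assoc, unitK_fst]
    exact Category.id_comp _
  · exact (Over.w (unitK a ≫ (Over.pullback (Neron.genPt R)).map (c ≫ uo G HK i))).trans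
      (Over.w ((Over.homMk c.left (ext_K c a) : TK a ⟶ HK) ≫ i)).symm

theorem unitK_map_fst {T : Over (Spec (CommRingCat.of R))} (a : T ⟶ HR HK) (y : T ⟶ G) (z : TK a ⟶ HK)
    (h : unitK a ≫ (Over.pullback (Neron.genPt R)).map y = z ≫ i) : y.left = z.left ≫ u₀ G HK i := by
  have h2 := congrArg (fun m => m.left ≫ pullback.fst G.hom (Neron.genPt R)) h
  simp only [Over.comp_left, Category.assoc, ActBC.pullback_map_left_fst] at h2
  rw [← Category.assoc, unitK_fst] at h2
  exact (Category.id_comp _).symm.trans h2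

theorem mul_factor {T : Over (Spec (CommRingCat.of R))} (a b : T ⟶ HR HK) :
    ∃ z : T.left ⟶ HK.left, ((a ≫ uo G HK i) * (b ≫ uo G HK i)).left = z ≫ u₀ G HK i := by
  let az : TK a ⟶ HK := Over.homMk a.left rfl
  let bz : TK a ⟶ HK := Over.homMk b.left (ext_K b a)
  refine ⟨(az * bz).left, unitK_map_fst i a _ (az * bz) ?_⟩
  rw [Functor.map_mul, MonObj.comp_mul, unitK_map i a a, unitK_map i a b, ← MonObj.mul_comp]

theorem inv_factor : ∃ z : (HR HK).left ⟶ HK.left, ((uo G HK i)⁻¹).left = z ≫ u₀ G HK i := by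
  let az : TK (𝟙 (HR HK)) ⟶ HK := Over.homMk (𝟙 HK.left) rfl
  refine ⟨(az⁻¹).left, unitK_map_fst i (𝟙 _) _ az⁻¹ ?_⟩
  have e := unitK_map i (𝟙 (HR HK)) (𝟙 _)
  rw [Category.id_comp] at e
  have h1 : (unitK (𝟙 (HR HK)) ≫ (Over.pullback (Neron.genPt R)).map (uo G HK i)⁻¹) *
      (unitK (𝟙 (HR HK)) ≫ (Over.pullback (Neron.genPt R)).map (uo G HK i)) = 1 := by
    rw [← MonObj.comp_mul, ← Functor.map_mul, inv_mul_cancel, Functor.map_one, MonObj.comp_one]
  have h2 : (az⁻¹ ≫ i) * (az ≫ i) = 1 := by rw [← MonObj.mul_comp, inv_mul_cancel, MonObj.one_comp]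
  rw [e] at h1
  exact mul_right_cancel (h1.trans h2.symm)

theorem one_factor : ∃ z : (TorsExtLib.gen R).left ⟶ HK.left,
    (1 : TorsExtLib.gen R ⟶ G).left = z ≫ u₀ G HK i := by
  let T := TorsExtLib.gen R
  let a : T ⟶ HR HK := Over.homMk ((1 : Over.mk (𝟙 (Spec (CommRingCat.of (FractionRing R)))) ⟶ HK).left) (by
    show _ ≫ HK.hom ≫ Neron.genPt R = Neron.genPt R
    rw [← Category.assoc, Over.w (1 : Over.mk (𝟙 (Spec (CommRingCat.of (FractionRing R)))) ⟶ HK)]
    exact Category.id_comp _)
  refine ⟨(1 : TK a ⟶ HK).left, unitK_map_fst i a _ 1 ?_⟩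
  rw [Functor.map_one, MonObj.comp_one, MonObj.one_comp]

variable [IsClosedImmersion i.left]

theorem exists_closure :
    ∃ (H : Over (Spec (CommRingCat.of R))) (_ : GrpObj H) (j : H ⟶ G) (φ : HK.left ⟶ H.left),
      IsMonHom j ∧ IsClosedImmersion j.left ∧ Flat H.hom ∧
      IsPullback φ HK.hom H.hom (Neron.genPt R) ∧ φ ≫ j.left = u₀ G HK i ∧ φ.ker = ⊥ := by
  haveI : IsPreimmersion (Neron.genPt R) := IsPreimmersion.of_isLocalization (nonZeroDivisors R)
  haveI : Flat (Neron.genPt R) := TorsExtLib.flat_gen R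
  haveI : QuasiCompact (pullback.fst G.hom (Neron.genPt R)) :=
    AlgSpRegLib.qc_of_isPullback (IsPullback.of_hasPullback G.hom (Neron.genPt R))
  let u := u₀ G HK i
  haveI : QuasiCompact u := inferInstanceAs (QuasiCompact (i.left ≫ pullback.fst G.hom (Neron.genPt R)))
  let H : Over (Spec (CommRingCat.of R)) := Over.mk (u.imageι ≫ G.hom)
  let j : H ⟶ G := Over.homMk u.imageι rfl
  haveI : IsClosedImmersion j.left := inferInstanceAs (IsClosedImmersion u.imageι)
  haveI : Mono j := (Over.forget _).mono_of_mono_map (show Mono j.left from inferInstance)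
  let φ : HK.left ⟶ H.left := u.toImage
  haveI hφd : IsSchemeTheoreticallyDominant φ := AlgSpRegLib.dominant_toImage u
  have hφj : φ ≫ j.left = u := Scheme.Hom.toImage_imageι u
  haveI : QuasiCompact φ := by
    haveI : QuasiCompact (φ ≫ j.left) := by rw [hφj]; infer_instance
    exact QuasiCompact.of_comp φ j.left
  let φo : HR HK ⟶ H := Over.homMk φ (by
    show φ ≫ u.imageι ≫ G.hom = _
    rw [← Category.assoc, Scheme.Hom.toImage_imageι]
    exact u₀_hom G HK i)
  have hφo : φo ≫ j = uo G HK i := Over.OverMorphism.ext hφj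
  haveI hflat : Flat H.hom := AlgSpRegLib.flat_of_dominant_genPt φ H.hom HK.hom (Over.w φo)
  haveI hKflat : Flat (HR HK).hom := inferInstanceAs (Flat (HK.hom ≫ Neron.genPt R))
  have lift_mem : ∀ {T T' : Over (Spec (CommRingCat.of R))} (y : T ⟶ G) (d : T' ⟶ T)
      [IsSchemeTheoreticallyDominant d.left] (z : T'.left ⟶ HK.left), (d ≫ y).left = z ≫ u →
      ∃ l : T ⟶ H, l ≫ j = y := by
    intro T T' y d _ z hz
    have hle : j.left.ker ≤ y.left.ker := by
      have h1 : (z ≫ u).ker = y.left.ker := by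
        rw [← hz, Over.comp_left, AlgSpRegLib.ker_comp_dominant]
      rw [← h1, show j.left.ker = u.ker from u.ker.ker_subschemeι]
      exact Scheme.Hom.le_ker_comp _ _
    refine ⟨Over.homMk (IsClosedImmersion.lift j.left y.left hle) ?_, Over.OverMorphism.ext ?_⟩
    · rw [← Over.w j, ← Category.assoc, IsClosedImmersion.lift_fac, Over.w y]
    · exact IsClosedImmersion.lift_fac _ _ _
  have hm : ∃ m : H ⊗ H ⟶ H, m ≫ j = (fst H H ≫ j) * (snd H H ≫ j) := by
    haveI : QuasiCompact φo.left := ‹QuasiCompact φ›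
    haveI : IsSchemeTheoreticallyDominant φo.left := hφd
    haveI : Flat (fst H H).left := TorsExtLib.property_fst (Q := @Flat) H H hflat
    haveI : Flat (fst H (HR HK)).left := TorsExtLib.property_fst (Q := @Flat) H (HR HK) hKflat
    haveI : Flat (snd H H).left := TorsExtLib.property_snd (Q := @Flat) H H hflat
    haveI := TorsExtLib.dominant_whiskerRight φo (HR HK)
    haveI := TorsExtLib.dominant_whiskerLeft H φo
    haveI : IsSchemeTheoreticallyDominant ((φo ▷ HR HK) ≫ (H ◁ φo)).left := by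
      rw [Over.comp_left]
      infer_instance
    obtain ⟨z, hz⟩ := mul_factor i (fst (HR HK) (HR HK)) (snd (HR HK) (HR HK))
    refine lift_mem _ ((φo ▷ HR HK) ≫ (H ◁ φo)) z ?_
    rw [← hz]
    congr 1
    simp only [MonObj.comp_mul, Category.assoc, whiskerLeft_fst_assoc, whiskerLeft_snd_assoc,
      whiskerRight_fst_assoc, whiskerRight_snd_assoc, hφo]
  have he : ∃ e : 𝟙_ (Over (Spec (CommRingCat.of R))) ⟶ H, e ≫ j = 1 := by
    let d : TorsExtLib.gen R ⟶ 𝟙_ _ := toUnit _
    haveI : IsSchemeTheoreticallyDominant d.left := by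
      have : d.left = Neron.genPt R := (Category.comp_id _).symm.trans (Over.w d)
      rw [this]
      exact AlgSpRegLib.dominant_genPt
    obtain ⟨z, hz⟩ := one_factor i
    exact lift_mem 1 d z (by rw [MonObj.comp_one]; exact hz)
  have hn : ∃ n : H ⟶ H, n ≫ j = j⁻¹ := by
    haveI : IsSchemeTheoreticallyDominant φo.left := hφd
    obtain ⟨z, hz⟩ := inv_factor i
    exact lift_mem _ φo z (by rw [GrpObj.comp_inv, hφo]; exact hz)
  obtain ⟨hGrp, hmon⟩ := Groth.Agent.SubDesc.exists_grpObj_of_mono j hm he hn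
  refine ⟨H, hGrp, j, φ, hmon, inferInstance, hflat, ?_, hφj, hφd.ker_eq_bot⟩
  -- the generic fibre
  let pG := pullback.fst G.hom (Neron.genPt R)
  haveI : Flat pG := MorphismProperty.pullback_fst (P := @Flat) _ _ ‹_›
  let m : HK.left ⟶ pullback j.left pG := pullback.lift φ i.left hφj
  haveI : Mono pG := MorphismProperty.pullback_fst (P := MorphismProperty.monomorphisms Scheme.{u}) _ _
    (MorphismProperty.monomorphisms.infer_property _)
  have sqφ : IsPullback φ i.left j.left pG → IsPullback φ HK.hom H.hom (Neron.genPt R) := fun h => by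
    have h2 := h.paste_vert (IsPullback.of_hasPullback G.hom (Neron.genPt R))
    rwa [show i.left ≫ pullback.snd G.hom (Neron.genPt R) = HK.hom from Over.w i,
      show j.left ≫ G.hom = H.hom from Over.w j] at h2
  refine sqφ ?_
  have hker : i.left.ker = (pullback.snd j.left pG).ker := by
    have h1 : IsPullback (𝟙 _) i.left u pG := IsPullback.of_horiz_isIso_mono ⟨by simp [u, u₀, pG]⟩
    rw [AlgSpRegLib.ker_eq_comap_of_isPullback h1,
      AlgSpRegLib.ker_eq_comap_of_isPullback (IsPullback.of_hasPullback j.left pG),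
      show j.left.ker = u.ker from u.ker.ker_subschemeι]
  haveI : IsIso m := IsClosedImmersion.isIso_of_ker_eq i.left (pullback.snd j.left pG) m
    (pullback.lift_snd _ _ _) hker
  exact (IsPullback.of_hasPullback j.left pG).of_iso (asIso m).symm (Iso.refl _) (Iso.refl _) (Iso.refl _)
    (by simp [m]) (by simp [m]) (by simp) (by simp)

end ClosureGrpLib
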